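import Mathlib

/-!
Counting Sylow subgroups relative to subgroups and normal subgroups.
-/

namespace CfsgLib.SylowCount

open Subgroup MulAction

variable {G : Type*} [Group G] [Finite G] {p : ℕ} [Fact p.Prime]

/-- A Sylow subgroup of `G` lying in `H` gives a bijection between the Sylow subgroups of `H` and the
Sylow subgroups of `G` contained in `H`. -/
noncomputable def sylowLeEquiv {H : Subgroup G} (P : Sylow p G) (hP : (P : Subgroup G) ≤ H) :
    {Q : Sylow p G // (Q : Subgroup G) ≤ H} ≃ Sylow p H :=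
  Equiv.ofBijective (fun Q => Q.1.subtype Q.2) ⟨fun Q R h => Subtype.ext (Sylow.subtype_injective h),
    fun R => by
      obtain ⟨h, hh⟩ := exists_smul_eq H (P.subtype hP) R
      refine ⟨⟨h • P, Sylow.smul_le hP h⟩, ?_⟩
      rw [← hh, Sylow.smul_subtype]⟩

theorem card_sylow_subgroup {H : Subgroup G} (P : Sylow p G) (hP : (P : Subgroup G) ≤ H) :
    Nat.card (Sylow p H) = Nat.card {Q : Sylow p G // (Q : Subgroup G) ≤ H} :=
  (Nat.card_congr (sylowLeEquiv P hP)).symm

/-- Every Sylow `p`-subgroup lies in a normal subgroup of index prime to `p`. -/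
theorem sylow_le_of_not_dvd_index {K : Subgroup G} [K.Normal] (hK : ¬ p ∣ K.index) (P : Sylow p G) :
    (P : Subgroup G) ≤ K := by
  intro x hx
  rw [← QuotientGroup.eq_one_iff]
  obtain ⟨k, hk⟩ := P.2 ⟨x, hx⟩
  have hk' : ((x : G ⧸ K)) ^ p ^ k = 1 := by
    rw [← QuotientGroup.mk_pow]
    have : x ^ p ^ k = 1 := by simpa using congrArg Subtype.val hk
    rw [this]; rfl
  have hidx : ((x : G ⧸ K)) ^ Nat.card (G ⧸ K) = 1 := pow_card_eq_one'
  have hcop : (p ^ k).Coprime (Nat.card (G ⧸ K)) :=
    Nat.Coprime.pow_left k ((Nat.Prime.coprime_iff_not_dvd Fact.out).mpr hK)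
  have := pow_gcd_eq_one.mpr ⟨hk', hidx⟩
  rwa [Nat.coprime_iff_gcd_eq_one.mp hcop, pow_one] at this

theorem card_sylow_of_not_dvd_index {K : Subgroup G} [K.Normal] (hK : ¬ p ∣ K.index) :
    Nat.card (Sylow p K) = Nat.card (Sylow p G) := by
  inhabit Sylow p G
  rw [card_sylow_subgroup (default : Sylow p G) (sylow_le_of_not_dvd_index hK _)]
  exact Nat.card_congr (Equiv.subtypeUnivEquiv fun Q => sylow_le_of_not_dvd_index hK Q)

/-- A surjection whose kernel normalises every Sylow subgroup induces a bijection on Sylow sets. -/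
theorem card_sylow_of_ker_le_normalizer {H : Type*} [Group H] {f : G →* H}
    (hf : Function.Surjective f)
    (hk : ∀ P : Sylow p G, f.ker ≤ normalizer (P : Set G)) :
    Nat.card (Sylow p H) = Nat.card (Sylow p G) := by
  refine (Nat.card_congr (Equiv.ofBijective _ ⟨?_, Sylow.mapSurjective_surjective hf p⟩)).symm
  intro P Q h
  have h' : (P : Subgroup G).map f = (Q : Subgroup G).map f := by
    simpa using congrArg Sylow.toSubgroup h
  apply Sylow.ext
  have hle : (P : Subgroup G) ≤ normalizer (Q : Set G) := by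
    have h1 : (P : Subgroup G) ≤ ((Q : Subgroup G).map f).comap f := map_le_iff_le_comap.mp h'.le
    rw [comap_map_eq] at h1
    exact h1.trans (sup_le le_normalizer (hk Q))
  have := P.2.inf_normalizer_sylow Q
  rw [inf_eq_left.mpr hle] at this
  exact (P.3 Q.2 (inf_eq_left.mp this.symm)).symm

theorem card_sylow_quotient_center :
    Nat.card (Sylow p (G ⧸ Subgroup.center G)) = Nat.card (Sylow p G) :=
  card_sylow_of_ker_le_normalizer (QuotientGroup.mk'_surjective _) fun P => by
    rw [QuotientGroup.ker_mk']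
    exact Subgroup.center_le_normalizer (s := (P : Set G))

theorem card_sylow_quotient_of_isPGroup {D : Subgroup G} [D.Normal] (hD : IsPGroup p D) :
    Nat.card (Sylow p (G ⧸ D)) = Nat.card (Sylow p G) :=
  card_sylow_of_ker_le_normalizer (QuotientGroup.mk'_surjective _) fun P => by
    rw [QuotientGroup.ker_mk']
    exact (hD.le_sylow_of_normal P).trans le_normalizer

/-- An equivariant map out of a finite set onto a transitive set has fibres of equal size. -/
theorem card_eq_mul_card_fiber {M α β : Type*} [Group M] [MulAction M α] [MulAction M β]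
    [Finite α] [Finite β] [IsPretransitive M β] (f : α → β) (hf : ∀ (m : M) a, f (m • a) = m • f a)
    (b₀ : β) : Nat.card α = Nat.card β * Nat.card {a // f a = b₀} := by
  rw [← Nat.card_congr (Equiv.sigmaFiberEquiv f), ← Nat.card_prod]
  refine Nat.card_congr ((Equiv.sigmaCongrRight fun b => ?_).trans (Equiv.sigmaEquivProd _ _))
  let m := (exists_smul_eq M b₀ b).choose
  have hm : m • b₀ = b := (exists_smul_eq M b₀ b).choose_spec
  exact
    { toFun := fun a => ⟨m⁻¹ • a.1, by rw [hf, a.2, inv_smul_eq_iff, hm]⟩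
      invFun := fun a => ⟨m • a.1, by rw [hf, a.2, hm]⟩
      left_inv := fun a => Subtype.ext (smul_inv_smul _ _)
      right_inv := fun a => Subtype.ext (inv_smul_smul _ _) }

theorem map_mk'_smul {K : Subgroup G} [K.Normal] (g : G) (Q : Sylow p G) :
    Sylow.mapSurjective (QuotientGroup.mk'_surjective K) (g • Q) =
      (g : G ⧸ K) • Sylow.mapSurjective (QuotientGroup.mk'_surjective K) Q := by
  apply Sylow.ext
  change (((Q : Subgroup G).map (MulAut.conj g).toMonoidHom).map (QuotientGroup.mk' K)) =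
    (((Q : Subgroup G).map (QuotientGroup.mk' K)).map (MulAut.conj (g : G ⧸ K)).toMonoidHom)
  rw [Subgroup.map_map, Subgroup.map_map]
  congr 1

/-- `n_p(G) = n_p(G/K) * n_p(PK)`. -/
theorem card_sylow_eq_quotient_mul_sup (K : Subgroup G) [K.Normal] (P : Sylow p G) :
    Nat.card (Sylow p G) =
      Nat.card (Sylow p (G ⧸ K)) * Nat.card (Sylow p ((P : Subgroup G) ⊔ K : Subgroup G)) := by
  let F := Sylow.mapSurjective (p := p) (QuotientGroup.mk'_surjective K)
  let _ : MulAction G (Sylow p (G ⧸ K)) := MulAction.compHom _ (QuotientGroup.mk' K)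
  have : IsPretransitive G (Sylow p (G ⧸ K)) := ⟨fun A B => by
    obtain ⟨x, hx⟩ := exists_smul_eq (G ⧸ K) A B
    obtain ⟨g, rfl⟩ := QuotientGroup.mk'_surjective K x
    exact ⟨g, hx⟩⟩
  rw [card_eq_mul_card_fiber F (fun g Q => map_mk'_smul g Q) (F P),
    card_sylow_subgroup P (le_sup_left (b := K))]
  congr 1
  refine Nat.card_congr (Equiv.subtypeEquivRight fun Q => ?_)
  constructor
  · intro h
    have h' : (Q : Subgroup G).map (QuotientGroup.mk' K) =
        (P : Subgroup G).map (QuotientGroup.mk' K) := by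
      simpa [F] using congrArg Sylow.toSubgroup h
    have h1 : (Q : Subgroup G) ≤ ((P : Subgroup G).map (QuotientGroup.mk' K)).comap
        (QuotientGroup.mk' K) := map_le_iff_le_comap.mp h'.le
    rwa [comap_map_eq, QuotientGroup.ker_mk'] at h1
  · intro h
    apply Sylow.ext
    refine ((F Q).3 (F P).2 ?_).symm
    simp only [F, Sylow.coe_mapSurjective]
    refine (Subgroup.map_mono h).trans ?_
    rw [Subgroup.map_sup, QuotientGroup.map_mk'_self, sup_bot_eq]

theorem relIndex_eq_relIndex_sup (H K : Subgroup G) [K.Normal] :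
    H.relIndex K = H.relIndex (H ⊔ K) := by
  have h1 := relIndex_mul_relIndex (H ⊓ K) H (H ⊔ K) inf_le_left le_sup_left
  have h2 := relIndex_mul_relIndex (H ⊓ K) K (H ⊔ K) inf_le_right le_sup_right
  rw [inf_relIndex_left] at h1
  rw [inf_relIndex_right, relIndex_sup_right] at h2
  refine Nat.eq_of_mul_eq_mul_left (Nat.pos_of_ne_zero (Nat.card_pos (α := (H : Subgroup G) ⧸ K.subgroupOf H)).ne') ?_
  change K.relIndex H * H.relIndex K = K.relIndex H * H.relIndex (H ⊔ K)
  rw [h1, ← h2, mul_comm]

/-- A Sylow subgroup meets a normal subgroup in a Sylow subgroup of it. -/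
noncomputable def restrict (K : Subgroup G) [K.Normal] (P : Sylow p G) : Sylow p K :=
  (P.2.comap_subtype (K := K)).toSylow (by
    change ¬ p ∣ (P : Subgroup G).relIndex K
    rw [relIndex_eq_relIndex_sup (P : Subgroup G) K]
    intro h
    exact P.not_dvd_index (h.trans (Subgroup.relIndex_dvd_index_of_le le_sup_left)))

theorem coe_restrict (K : Subgroup G) [K.Normal] (P : Sylow p G) :
    (restrict K P : Subgroup K) = (P : Subgroup G).subgroupOf K := rfl

theorem restrict_smul (K : Subgroup G) [K.Normal] (k : K) (P : Sylow p G) :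
    restrict K ((k : G) • P) = k • restrict K P := by
  apply Sylow.ext
  rw [coe_restrict, Sylow.coe_subgroup_smul, Sylow.coe_subgroup_smul, coe_restrict]
  ext x
  simp [Subgroup.mem_subgroupOf, Subgroup.mem_pointwise_smul_iff_inv_smul_mem, MulAut.smul_def]

/-- For `K ⊴ G` and `L ≥ PK`: `n_p(L) = n_p(K) * n_p(N_L(P ∩ K))`. -/
theorem card_sylow_eq_normal_mul_normalizer (K : Subgroup G) [K.Normal] (P : Sylow p G)
    {L : Subgroup G} (hP : (P : Subgroup G) ≤ L) (hK : K ≤ L) {N : Subgroup G}
    (hN : N = L ⊓ normalizer (((P : Subgroup G) ⊓ K : Subgroup G) : Set G)) :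
    Nat.card (Sylow p L) = Nat.card (Sylow p K) * Nat.card (Sylow p N) := by
  let X := {Q : Sylow p G // (Q : Subgroup G) ≤ L}
  let _ : MulAction K X :=
    { smul := fun k Q => ⟨(k : G) • Q.1, Sylow.smul_le Q.2 ⟨_, hK k.2⟩⟩
      one_smul := fun Q => Subtype.ext (one_smul G Q.1)
      mul_smul := fun a b Q => Subtype.ext (mul_smul (a : G) (b : G) Q.1) }
  rw [card_sylow_subgroup P hP,
    card_eq_mul_card_fiber (M := K) (α := X) (fun Q => restrict K Q.1)
      (fun k Q => restrict_smul K k Q.1) (restrict K P)]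
  congr 1
  have hPN : (P : Subgroup G) ≤ N := by
    rw [hN]
    refine le_inf hP ?_
    refine le_trans (le_inf (le_normalizer (H := (P : Subgroup G))) ?_) inf_normalizer_le_normalizer_inf
    rw [Subgroup.normalizer_eq_top]; exact le_top
  rw [card_sylow_subgroup P hPN]
  refine Nat.card_congr
    { toFun := fun Q => ⟨Q.1.1, ?_⟩
      invFun := fun Q => ⟨⟨Q.1, Q.2.trans (hN ▸ inf_le_left)⟩, ?_⟩
      left_inv := fun Q => rfl
      right_inv := fun Q => rfl }
  · have h : (Q.1.1 : Subgroup G).subgroupOf K = (P : Subgroup G).subgroupOf K := by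
      simpa [coe_restrict] using congrArg Sylow.toSubgroup Q.2
    have h' : (Q.1.1 : Subgroup G) ⊓ K = (P : Subgroup G) ⊓ K := by
      simpa [subgroupOf_map_subtype] using congrArg (Subgroup.map K.subtype) h
    rw [hN, ← h']
    refine le_inf Q.1.2 ?_
    refine le_trans (le_inf (le_normalizer (H := (Q.1.1 : Subgroup G))) ?_) inf_normalizer_le_normalizer_inf
    rw [Subgroup.normalizer_eq_top]; exact le_top
  · apply Sylow.ext
    refine (restrict K P).3 (restrict K Q.1).2 ?_
    have hD : (P : Subgroup G) ⊓ K ≤ Q.1 := by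
      have hQn : (Q.1 : Subgroup G) ≤ normalizer (((P : Subgroup G) ⊓ K : Subgroup G) : Set G) :=
        Q.2.trans (hN ▸ inf_le_right)
      have hsup : IsPGroup p ((((P : Subgroup G) ⊓ K : Subgroup G)) ⊔ (Q.1 : Subgroup G) : Subgroup G) :=
        P.2.to_inf_left.to_sup_of_normal_left' Q.1.2 hQn
      exact le_sup_left.trans_eq (Q.1.3 hsup le_sup_right)
    intro x hx
    exact hD ⟨hx, x.2⟩

end CfsgLib.SylowCount
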