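import Cfsg.Agent.UniqueMaximal.Basic
import Cfsg.Agent.Coprime.Basic
import Mathlib.Tactic

/-!
The number of Sylow subgroups of a quotient, and traces on a direct product of normal subgroups.
-/

open scoped commutatorElement

namespace CfsgLib.SylowCount

open Subgroup

variable {G : Type*} [Group G] [Finite G] {p : ℕ} [Fact p.Prime]

theorem card_sup_mul_card_inf (H K : Subgroup G) [K.Normal] :
    Nat.card ↥(H ⊔ K) * Nat.card ↥(H ⊓ K) = Nat.card H * Nat.card K := by
  have h1 : K.relIndex (H ⊔ K) = K.relIndex H := Subgroup.relIndex_sup_right _ _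
  have e1 : Nat.card ↥(H ⊔ K) = Nat.card K * K.relIndex (H ⊔ K) := by
    rw [Subgroup.relIndex, ← (K.subgroupOf (H ⊔ K)).card_mul_index,
      Nat.card_congr (Subgroup.subgroupOfEquivOfLe le_sup_right).toEquiv]
  have e2 : Nat.card H = Nat.card ↥(H ⊓ K) * K.relIndex H := by
    conv_lhs => rw [← (K.subgroupOf H).card_mul_index]
    rw [Subgroup.relIndex, ← Subgroup.inf_subgroupOf_left,
      Nat.card_congr (Subgroup.subgroupOfEquivOfLe inf_le_left).toEquiv]
  rw [e1, e2, h1]; ring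

theorem normalizer_map_mk_comap (P : Sylow p G) (K : Subgroup G) [K.Normal] :
    (normalizer (((P : Subgroup G).map (QuotientGroup.mk' K) : Subgroup (G ⧸ K)) : Set (G ⧸ K))).comap
      (QuotientGroup.mk' K) = normalizer ((P : Subgroup G) : Set G) ⊔ K := by
  refine le_antisymm ?_ ?_
  · intro x hx
    have hxP : ((x • P : Sylow p G) : Subgroup G) ≤ (P : Subgroup G) ⊔ K := by
      rw [← QuotientGroup.ker_mk' K, ← Subgroup.comap_map_eq, Sylow.coe_subgroup_smul]
      rintro _ ⟨y, hy, rfl⟩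
      rw [Subgroup.mem_comap]
      have := (Subgroup.mem_normalizer_iff.mp hx _).mp (Subgroup.mem_map_of_mem (QuotientGroup.mk' K) hy)
      simpa [MulAut.conj_apply] using this
    have hP : (P : Subgroup G) ≤ (P : Subgroup G) ⊔ K := le_sup_left
    obtain ⟨y, hy⟩ := MulAction.exists_smul_eq ↥((P : Subgroup G) ⊔ K)
      ((x • P).subtype hxP) (P.subtype hP)
    rw [Sylow.smul_subtype] at hy
    have h2 : (y : G) • x • P = P := Sylow.subtype_injective hy
    rw [← mul_smul] at h2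
    have h3 : (y : G) * x ∈ normalizer ((P : Subgroup G) : Set G) :=
      Sylow.smul_eq_iff_mem_normalizer.mp h2
    have h4 : (y : G) ∈ normalizer ((P : Subgroup G) : Set G) ⊔ K :=
      (sup_le_sup_right Subgroup.le_normalizer K) y.2
    simpa using mul_mem (inv_mem h4) (Subgroup.mem_sup_left h3)
  · refine sup_le ?_ ?_
    · exact fun x hx => Subgroup.le_normalizer_map (QuotientGroup.mk' K) ⟨x, hx, rfl⟩
    · intro x hx
      rw [Subgroup.mem_comap, show QuotientGroup.mk' K x = 1 from (QuotientGroup.eq_one_iff x).mpr hx]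
      exact one_mem _

theorem card_sylow_quotient (P : Sylow p G) (K : Subgroup G) [K.Normal] :
    Nat.card (Sylow p (G ⧸ K)) = (normalizer ((P : Subgroup G) : Set G) ⊔ K).index := by
  rw [(P.mapSurjective (QuotientGroup.mk'_surjective K)).card_eq_index_normalizer,
    ← normalizer_map_mk_comap P K,
    Subgroup.index_comap_of_surjective _ (QuotientGroup.mk'_surjective K)]
  rfl

theorem card_sylow_inf (P : Sylow p G) (K : Subgroup G) [K.Normal] :
    Nat.card ↥((P : Subgroup G) ⊓ K) = p ^ (Nat.card K).factorization p := by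
  obtain ⟨Q, hQ⟩ := UniqueMaximal.exists_sylow_map_eq_inf K P
  rw [← hQ, Subgroup.card_map_of_injective K.subtype_injective, Q.card_eq_multiplicity]

theorem card_sup_of_disjoint' {A B : Subgroup G} {M N : Subgroup G} [M.Normal] [N.Normal]
    (hMN : M ⊓ N = ⊥) (hA : A ≤ M) (hB : B ≤ N) :
    Nat.card ↥(A ⊔ B) = Nat.card A * Nat.card B := by
  refine Coprime.card_sup_eq (fun b hb => ?_) (le_bot_iff.mp (hMN ▸ inf_le_inf hA hB))
  rw [Subgroup.mem_normalizer_iff]
  have hc : ∀ a ∈ M, b * a = a * b := fun a ha =>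
    (Subgroup.commute_of_normal_of_disjoint N M inferInstance inferInstance
      (disjoint_iff.mpr (inf_comm M N ▸ hMN)) b a (hB hb) ha).eq
  intro a
  constructor
  · intro ha
    rwa [hc a (hA ha), mul_inv_cancel_right]
  · intro ha
    have haM : a ∈ M := by
      have := (inferInstance : M.Normal).conj_mem _ (hA ha) b⁻¹
      simpa [mul_assoc] using this
    rwa [hc a haM, mul_inv_cancel_right] at ha

theorem normalizer_inf_sup (P : Sylow p G) (M N : Subgroup G) [M.Normal] [N.Normal]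
    (hMN : M ⊓ N = ⊥) :
    normalizer ((P : Subgroup G) : Set G) ⊓ (M ⊔ N) =
      (normalizer ((P : Subgroup G) : Set G) ⊓ M) ⊔ (normalizer ((P : Subgroup G) : Set G) ⊓ N) := by
  refine le_antisymm ?_ (sup_le (inf_le_inf_left _ le_sup_left) (inf_le_inf_left _ le_sup_right))
  have hcc : ∀ a ∈ M, ∀ b ∈ N, a * b = b * a := fun a ha b hb =>
    (Subgroup.commute_of_normal_of_disjoint M N inferInstance inferInstance
      (disjoint_iff.mpr hMN) a b ha hb).eq
  -- the Sylow trace on `M ⊔ N` splits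
  have hsplit : (P : Subgroup G) ⊓ (M ⊔ N) = ((P : Subgroup G) ⊓ M) ⊔ ((P : Subgroup G) ⊓ N) := by
    refine (Subgroup.eq_of_le_of_card_ge
      (sup_le (inf_le_inf_left _ le_sup_left) (inf_le_inf_left _ le_sup_right)) ?_).symm
    rw [card_sylow_inf P (M ⊔ N), card_sup_of_disjoint' hMN inf_le_right inf_le_right,
      card_sylow_inf P M, card_sylow_inf P N, card_sup_of_disjoint' hMN le_rfl le_rfl,
      Nat.factorization_mul Nat.card_pos.ne' Nat.card_pos.ne', Finsupp.add_apply, pow_add]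
  rintro x ⟨hx, hxMN⟩
  replace hxMN : x ∈ ((M ⊔ N : Subgroup G) : Set G) := hxMN
  rw [Subgroup.normal_mul] at hxMN
  obtain ⟨m, hm, n, hn, rfl⟩ := hxMN
  have hkey : ∀ q ∈ (P : Subgroup G), ⁅m, q⁆ ∈ (P : Subgroup G) ∧ ⁅n, q⁆ ∈ (P : Subgroup G) := by
    intro q hq
    have h1 : ⁅m * n, q⁆ ∈ (P : Subgroup G) :=
      mul_mem ((Subgroup.mem_normalizer_iff.mp hx q).mp hq) (inv_mem hq)
    have hmM : ⁅m, q⁆ ∈ M := by
      have := mul_mem hm ((inferInstance : M.Normal).conj_mem _ (inv_mem hm) q)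
      simpa [commutatorElement_def, mul_assoc] using this
    have hnN : ⁅n, q⁆ ∈ N := by
      have := mul_mem hn ((inferInstance : N.Normal).conj_mem _ (inv_mem hn) q)
      simpa [commutatorElement_def, mul_assoc] using this
    have e : ⁅m * n, q⁆ = ⁅m, q⁆ * ⁅n, q⁆ := by
      rw [commutatorElement_mul_left_eq_conj_mul, hcc m hm _ hnN, mul_inv_cancel_right,
        (hcc _ hmM _ hnN)]
    rw [e] at h1
    have h2 : ⁅m, q⁆ * ⁅n, q⁆ ∈ (P : Subgroup G) ⊓ (M ⊔ N) := ⟨h1, mul_mem_sup hmM hnN⟩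
    rw [hsplit] at h2
    obtain ⟨a, ha, b, hb, hab⟩ := Coprime.exists_mul_of_mem_sup (N := (P : Subgroup G) ⊓ M)
      (H := (P : Subgroup G) ⊓ N) (fun y hy => by
        rw [Subgroup.mem_normalizer_iff]
        intro z
        refine ⟨fun hz => ?_, fun hz => ?_⟩
        · rwa [← hcc z hz.2 y hy.2, mul_inv_cancel_right]
        · have hzM : z ∈ M := by
            have := (inferInstance : M.Normal).conj_mem _ hz.2 y⁻¹
            simpa [mul_assoc] using this
          rwa [← hcc z hzM y hy.2, mul_inv_cancel_right] at hz) h2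
    have hz : a⁻¹ * ⁅m, q⁆ = b * ⁅n, q⁆⁻¹ := by
      rw [inv_mul_eq_iff_eq_mul, ← mul_assoc, eq_mul_inv_iff_mul_eq]; exact hab.symm
    have hzero : a⁻¹ * ⁅m, q⁆ ∈ M ⊓ N :=
      Subgroup.mem_inf.mpr ⟨M.mul_mem (M.inv_mem ha.2) hmM, hz ▸ N.mul_mem hb.2 (N.inv_mem hnN)⟩
    rw [hMN, Subgroup.mem_bot, inv_mul_eq_one] at hzero
    subst hzero
    rw [inv_mul_cancel, eq_comm, mul_inv_eq_one] at hz
    exact ⟨ha.1, hz ▸ hb.1⟩
  have hnorm : ∀ y : G, (∀ q ∈ (P : Subgroup G), ⁅y, q⁆ ∈ (P : Subgroup G)) →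
      y ∈ normalizer ((P : Subgroup G) : Set G) := by
    intro y hy
    refine Subgroup.mem_normalizer_iff_map_conj_eq.mpr (Subgroup.eq_of_le_of_card_ge ?_
      (Subgroup.card_map_of_injective (MulAut.conj y).injective).ge)
    rintro _ ⟨q, hq, rfl⟩
    have := mul_mem (hy q hq) hq
    simpa [commutatorElement_def, mul_assoc] using this
  exact mul_mem_sup ⟨hnorm m fun q hq => (hkey q hq).1, hm⟩ ⟨hnorm n fun q hq => (hkey q hq).2, hn⟩

theorem card_sylow_mul (M N : Subgroup G) [M.Normal] [N.Normal] (hMN : M ⊓ N = ⊥) :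
    Nat.card (Sylow p G) * Nat.card (Sylow p (G ⧸ (M ⊔ N))) =
      Nat.card (Sylow p (G ⧸ M)) * Nat.card (Sylow p (G ⧸ N)) := by
  obtain ⟨P⟩ : Nonempty (Sylow p G) := inferInstance
  rw [P.card_eq_index_normalizer, card_sylow_quotient P, card_sylow_quotient P, card_sylow_quotient P]
  set H := normalizer ((P : Subgroup G) : Set G)
  have h0 := card_sup_mul_card_inf H (M ⊔ N)
  have h1 := card_sup_mul_card_inf H M
  have h2 := card_sup_mul_card_inf H N
  have h3 : Nat.card ↥(M ⊔ N) = Nat.card M * Nat.card N :=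
    card_sup_of_disjoint' hMN le_rfl le_rfl
  have h4 : Nat.card ↥(H ⊓ (M ⊔ N)) = Nat.card ↥(H ⊓ M) * Nat.card ↥(H ⊓ N) := by
    rw [normalizer_inf_sup P M N hMN, card_sup_of_disjoint' hMN inf_le_right inf_le_right]
  rw [h3, h4] at h0
  have e : Nat.card H * Nat.card ↥(H ⊔ (M ⊔ N)) = Nat.card ↥(H ⊔ M) * Nat.card ↥(H ⊔ N) := by
    have hpos : 0 < Nat.card ↥(H ⊓ M) * Nat.card ↥(H ⊓ N) := Nat.mul_pos Nat.card_pos Nat.card_pos
    refine Nat.eq_of_mul_eq_mul_right hpos ?_
    calc _ = Nat.card H * (Nat.card ↥(H ⊔ (M ⊔ N)) * (Nat.card ↥(H ⊓ M) * Nat.card ↥(H ⊓ N))) := by ring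
      _ = Nat.card H * (Nat.card H * (Nat.card M * Nat.card N)) := by rw [h0]
      _ = (Nat.card H * Nat.card M) * (Nat.card H * Nat.card N) := by ring
      _ = _ := by rw [← h1, ← h2]; ring
  have hp : 0 < Nat.card ↥(H ⊔ M) * Nat.card ↥(H ⊔ N) := Nat.mul_pos Nat.card_pos Nat.card_pos
  refine Nat.eq_of_mul_eq_mul_right hp ?_
  calc H.index * (H ⊔ (M ⊔ N)).index * (Nat.card ↥(H ⊔ M) * Nat.card ↥(H ⊔ N))
      = (Nat.card H * H.index) * (Nat.card ↥(H ⊔ (M ⊔ N)) * (H ⊔ (M ⊔ N)).index) := by rw [← e]; ring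
    _ = (Nat.card ↥(H ⊔ M) * (H ⊔ M).index) * (Nat.card ↥(H ⊔ N) * (H ⊔ N).index) := by
        simp only [Subgroup.card_mul_index]
    _ = _ := by ring

end CfsgLib.SylowCount
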